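import Mathlib
import Groth.Agent.H10.MaxWeaklyEtale

/-!
# Base change of the maximal weakly étale subalgebra: basic set-up

`K` a field, `A` a `K`-algebra, `B = maxWeaklyEtale K A`, `Q = A / B` (as a `K`-vector space),
`ρ R : R ⊗ A → R ⊗ Q` the base change of the quotient map.
-/

set_option autoImplicit false
set_option linter.style.haveILetI false
set_option linter.unusedSimpArgs false
set_option linter.unusedVariables false

universe u
open Polynomial TensorProduct

namespace Groth.Agent.H78.MaxWE

section basic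

variable (K : Type u) [Field K] (A : Type u) [CommRing A] [Algebra K A]

/-- membership in the maximal weakly étale subalgebra = being killed by a separable polynomial -/
theorem mem_maxWE_iff (a : A) :
    a ∈ EtAlgD.maxWeaklyEtale K A ↔ ∃ P : K[X], P.Separable ∧ aeval a P = 0 := by
  constructor
  · intro ha
    haveI := Groth.Agent.H10.weaklyEtale_maxWE K A
    obtain ⟨P, hP, hPa⟩ := Groth.Agent.H10.exists_separable_of_weaklyEtale K
      (⟨a, ha⟩ : EtAlgD.maxWeaklyEtale K A)
    refine ⟨P, hP, ?_⟩
    have h2 := aeval_algHom_apply (EtAlgD.maxWeaklyEtale K A).val ⟨a, ha⟩ P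
    rw [hPa, map_zero] at h2
    exact h2
  · rintro ⟨P, hP, hPa⟩
    haveI := Groth.Agent.H10.weaklyEtale_adjoin_of_separable K a P hP hPa
    exact Groth.Agent.H10.le_maxWE K A _ (Algebra.subset_adjoin (Set.mem_singleton a))

theorem separable_X_sq_sub_X : (X ^ 2 - X : K[X]).Separable := by
  refine ⟨-4, 2 * X - 1, ?_⟩
  simp only [derivative_sub, derivative_X_pow, derivative_X]
  have : (C ((2 : ℕ) : K) : K[X]) = 2 := by
    rw [Nat.cast_ofNat]; exact map_ofNat C 2
  rw [this]
  ring

theorem idempotent_mem_maxWE {e : A} (he : IsIdempotentElem e) :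
    e ∈ EtAlgD.maxWeaklyEtale K A := by
  rw [mem_maxWE_iff]
  refine ⟨X ^ 2 - X, separable_X_sq_sub_X K, ?_⟩
  simp only [map_sub, map_pow, aeval_X]
  rw [pow_two, he.eq, sub_self]

/-- the quotient vector space `A / B` -/
abbrev Quo : Type u := A ⧸ (Subalgebra.toSubmodule (EtAlgD.maxWeaklyEtale K A))

/-- the quotient map -/
noncomputable abbrev quoMap : A →ₗ[K] Quo K A :=
  (Subalgebra.toSubmodule (EtAlgD.maxWeaklyEtale K A)).mkQ

theorem quoMap_eq_zero_iff (a : A) : quoMap K A a = 0 ↔ a ∈ EtAlgD.maxWeaklyEtale K A := by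
  rw [Submodule.mkQ_apply, Submodule.Quotient.mk_eq_zero]
  exact Iff.rfl

variable (R : Type u) [CommRing R] [Algebra K R]

/-- base change of the quotient map -/
noncomputable def rho : R ⊗[K] A →ₗ[R] R ⊗[K] Quo K A :=
  (quoMap K A).baseChange R

@[simp]
theorem rho_tmul (r : R) (a : A) : rho K A R (r ⊗ₜ a) = r ⊗ₜ quoMap K A a := rfl

theorem rho_one : rho K A R 1 = 0 := by
  rw [Algebra.TensorProduct.one_def, rho_tmul,
    (quoMap_eq_zero_iff K A 1).2 (Subalgebra.one_mem _), tmul_zero]

theorem rho_algebraMap (r : R) : rho K A R (algebraMap R (R ⊗[K] A) r) = 0 := by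
  rw [Algebra.algebraMap_eq_smul_one, map_smul, rho_one, smul_zero]

variable {R} {R' : Type u} [CommRing R'] [Algebra K R']

/-- the ring map `R ⊗ A → R' ⊗ A` induced by `φ : R → R'` -/
noncomputable abbrev tmap (φ : R →ₐ[K] R') : R ⊗[K] A →ₐ[K] R' ⊗[K] A :=
  Algebra.TensorProduct.map φ (AlgHom.id K A)

theorem rho_tmap (φ : R →ₐ[K] R') (x : R ⊗[K] A) :
    rho K A R' (tmap K A φ x) = LinearMap.rTensor (Quo K A) φ.toLinearMap (rho K A R x) := by
  induction x using TensorProduct.induction_on with
  | zero => simp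
  | tmul r a => simp [tmap]
  | add x y hx hy => simp only [map_add, hx, hy]

theorem tmap_injective (φ : R →ₐ[K] R') (hφ : Function.Injective φ) :
    Function.Injective (tmap K A φ) := by
  have h := Module.Flat.rTensor_preserves_injective_linearMap (M := A) φ.toLinearMap hφ
  intro x y hxy
  apply h
  have e : ∀ z : R ⊗[K] A, LinearMap.rTensor A φ.toLinearMap z = tmap K A φ z := by
    intro z
    induction z using TensorProduct.induction_on with
    | zero => simp
    | tmul r a => simp [tmap]
    | add x y hx hy => simp only [map_add, hx, hy]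
  rw [e, e, hxy]

theorem rTensor_quo_injective (φ : R →ₐ[K] R') (hφ : Function.Injective φ) :
    Function.Injective (LinearMap.rTensor (Quo K A) φ.toLinearMap) :=
  Module.Flat.rTensor_preserves_injective_linearMap (M := Quo K A) φ.toLinearMap hφ

/-- descent of the vanishing of `ρ` along an injective map -/
theorem rho_eq_zero_of_tmap (φ : R →ₐ[K] R') (hφ : Function.Injective φ) (x : R ⊗[K] A)
    (h : rho K A R' (tmap K A φ x) = 0) : rho K A R x = 0 := by
  rw [rho_tmap] at h
  apply rTensor_quo_injective K A φ hφ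
  rw [h, map_zero]

theorem rho_tmap_eq_zero (φ : R →ₐ[K] R') (x : R ⊗[K] A)
    (h : rho K A R x = 0) : rho K A R' (tmap K A φ x) = 0 := by
  rw [rho_tmap, h, map_zero]

/-- `tmap` of an idempotent along an injective map reflects idempotency -/
theorem isIdempotentElem_of_tmap (φ : R →ₐ[K] R') (hφ : Function.Injective φ) (x : R ⊗[K] A)
    (h : IsIdempotentElem (tmap K A φ x)) : IsIdempotentElem x := by
  apply tmap_injective K A φ hφ
  rw [map_mul]
  exact h

end basic

end Groth.Agent.H78.MaxWE
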