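import Mathlib
import Groth.Agent.H78.MaxWE.Basic

/-!
# The finite Galois case: trace argument
-/

set_option autoImplicit false
set_option linter.style.haveILetI false
set_option linter.unusedSimpArgs false
set_option linter.unusedVariables false

universe u
open Polynomial TensorProduct

namespace Groth.Agent.H78.MaxWE

section galois

variable (K : Type u) [Field K] (A : Type u) [CommRing A] [Algebra K A]
variable (N : Type u) [Field N] [Algebra K N]

/-- `σ ⊗ 1` is semilinear -/
theorem tmap_algebraMap_mul (σ : N →ₐ[K] N) (l : N) (x : N ⊗[K] A) :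
    tmap K A σ (algebraMap N (N ⊗[K] A) l * x) =
      algebraMap N (N ⊗[K] A) (σ l) * tmap K A σ x := by
  rw [map_mul]
  have : tmap K A σ (algebraMap N (N ⊗[K] A) l) = algebraMap N (N ⊗[K] A) (σ l) := by
    simp [Algebra.TensorProduct.algebraMap_apply, tmap]
  rw [this]

theorem tmap_includeRight (σ : N →ₐ[K] N) (a : A) :
    tmap K A σ (Algebra.TensorProduct.includeRight a) = Algebra.TensorProduct.includeRight a := by
  simp [tmap]

/-- `σ ⊗ 1` preserves separable elements -/
theorem tmap_mem_maxWE (σ : N →ₐ[K] N) (x : N ⊗[K] A)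
    (hx : x ∈ EtAlgD.maxWeaklyEtale N (N ⊗[K] A)) :
    tmap K A σ x ∈ EtAlgD.maxWeaklyEtale N (N ⊗[K] A) := by
  rw [mem_maxWE_iff] at hx ⊢
  obtain ⟨P, hP, hPx⟩ := hx
  refine ⟨P.map (σ : N →+* N), hP.map, ?_⟩
  have h := Polynomial.map_aeval_eq_aeval_map (R := N) (S := N ⊗[K] A) (T := N) (U := N ⊗[K] A)
    (φ := (σ : N →+* N)) (ψ := (tmap K A σ : N ⊗[K] A →+* N ⊗[K] A)) (by
      ext l
      simp [Algebra.TensorProduct.algebraMap_apply, tmap]) P x
  have h' : tmap K A σ (aeval x P) = aeval (tmap K A σ x) (P.map (σ : N →+* N)) := h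
  rw [← h', hPx, map_zero]

variable [FiniteDimensional K N] [IsGalois K N]

/-- descent of separability along a finite Galois extension -/
theorem mem_maxWE_of_includeRight_mem (a : A)
    (ha : (Algebra.TensorProduct.includeRight a : N ⊗[K] A) ∈
      EtAlgD.maxWeaklyEtale N (N ⊗[K] A)) :
    a ∈ EtAlgD.maxWeaklyEtale K A := by
  rw [mem_maxWE_iff] at ha ⊢
  obtain ⟨P, hP, hPy⟩ := ha
  set y : N ⊗[K] A := Algebra.TensorProduct.includeRight a with hy
  have hint : IsIntegral N y := ⟨P * C (P.leadingCoeff)⁻¹,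
    Polynomial.monic_mul_leadingCoeff_inv hP.ne_zero, by
      rw [← aeval_def, map_mul, hPy, zero_mul]⟩
  set m := minpoly N y with hm
  have hmP : m ∣ P := minpoly.dvd N y hPy
  have hmsep : m.Separable := hP.of_dvd hmP
  have hfix : ∀ σ : N ≃ₐ[K] N, m.map ((σ : N →ₐ[K] N) : N →+* N) = m := by
    intro σ
    apply minpoly.unique
    · exact (minpoly.monic hint).map _
    · have h := Polynomial.map_aeval_eq_aeval_map (R := N) (S := N ⊗[K] A) (T := N)
        (U := N ⊗[K] A)
        (φ := ((σ : N →ₐ[K] N) : N →+* N))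
        (ψ := (tmap K A (σ : N →ₐ[K] N) : N ⊗[K] A →+* N ⊗[K] A)) (by
          ext l
          simp [Algebra.TensorProduct.algebraMap_apply, tmap]) m y
      have h2 : tmap K A (σ : N →ₐ[K] N) y = y := by
        simp [hy, tmap]
      have h' : tmap K A (σ : N →ₐ[K] N) (aeval y m) =
          aeval (tmap K A (σ : N →ₐ[K] N) y) (m.map ((σ : N →ₐ[K] N) : N →+* N)) := h
      rw [h2] at h'
      rw [← h', hm, minpoly.aeval, map_zero]
    · intro q hq hqy
      rw [Polynomial.degree_map]
      exact minpoly.min N y hq hqy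
  have hlift : m ∈ Polynomial.lifts (algebraMap K N) := by
    rw [Polynomial.lifts_iff_coeff_lifts]
    intro n
    have h1 : m.coeff n ∈ (⊥ : IntermediateField K N) := by
      rw [IsGalois.mem_bot_iff_fixed]
      intro σ
      have h2 := congrArg (fun p => p.coeff n) (hfix σ)
      simpa [Polynomial.coeff_map] using h2
    exact IntermediateField.mem_bot.1 h1
  obtain ⟨Q, hQ⟩ := (Polynomial.mem_lifts _).1 hlift
  refine ⟨Q, ?_, ?_⟩
  · rw [← Polynomial.separable_map (algebraMap K N), hQ]
    exact hmsep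
  · have hinj : Function.Injective
        (Algebra.TensorProduct.includeRight : A →ₐ[K] N ⊗[K] A) :=
      Algebra.TensorProduct.includeRight_injective (algebraMap K N).injective
    apply hinj
    rw [map_zero, ← aeval_algHom_apply, ← hy, ← aeval_map_algebraMap N y Q, hQ, hm,
      minpoly.aeval]

/-- the trace coefficient map -/
noncomputable def coef (μ : N) : N ⊗[K] A →ₗ[K] A :=
  (TensorProduct.lid K A).toLinearMap ∘ₗ
    LinearMap.rTensor A ((Algebra.trace K N) ∘ₗ (LinearMap.mulLeft K μ))

omit [FiniteDimensional K N] [IsGalois K N] in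
@[simp]
theorem coef_tmul (μ l : N) (a : A) :
    coef K A N μ (l ⊗ₜ a) = Algebra.trace K N (μ * l) • a := by
  simp [coef]

theorem includeRight_coef (μ : N) (x : N ⊗[K] A) :
    (Algebra.TensorProduct.includeRight (coef K A N μ x) : N ⊗[K] A) =
      ∑ σ : N ≃ₐ[K] N, tmap K A (σ : N →ₐ[K] N) (algebraMap N (N ⊗[K] A) μ * x) := by
  induction x using TensorProduct.induction_on with
  | zero => simp
  | tmul l a =>
    rw [coef_tmul]
    have h1 : ∀ σ : N ≃ₐ[K] N,
        tmap K A (σ : N →ₐ[K] N) (algebraMap N (N ⊗[K] A) μ * l ⊗ₜ[K] a) = (σ (μ * l)) ⊗ₜ a := by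
      intro σ
      simp [Algebra.TensorProduct.algebraMap_apply, tmap]
    simp only [h1]
    rw [← TensorProduct.sum_tmul, ← trace_eq_sum_automorphisms]
    simp only [Algebra.TensorProduct.includeRight_apply]
    rw [TensorProduct.tmul_smul, TensorProduct.smul_tmul', Algebra.algebraMap_eq_smul_one]
  | add x y hx hy =>
    simp only [map_add, mul_add, hx, hy, Finset.sum_add_distrib]

theorem coef_mem_maxWE (μ : N) (x : N ⊗[K] A)
    (hx : x ∈ EtAlgD.maxWeaklyEtale N (N ⊗[K] A)) :
    coef K A N μ x ∈ EtAlgD.maxWeaklyEtale K A := by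
  apply mem_maxWE_of_includeRight_mem K A N
  rw [includeRight_coef]
  apply Subalgebra.sum_mem
  intro σ _
  apply tmap_mem_maxWE
  exact Subalgebra.mul_mem _ (Subalgebra.algebraMap_mem _ μ) hx

theorem sum_dual_coef {ι : Type} [Fintype ι] [DecidableEq ι] (b : Module.Basis ι K N)
    (x : N ⊗[K] A) :
    x = ∑ i, algebraMap N (N ⊗[K] A)
        ((Algebra.traceForm K N).dualBasis (traceForm_nondegenerate K N) b i) *
      Algebra.TensorProduct.includeRight (coef K A N (b i) x) := by
  induction x using TensorProduct.induction_on with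
  | zero => simp
  | tmul l a =>
    set d := (Algebra.traceForm K N).dualBasis (traceForm_nondegenerate K N) b with hd
    have h1 : ∀ i, algebraMap N (N ⊗[K] A) (d i) *
        Algebra.TensorProduct.includeRight (coef K A N (b i) (l ⊗ₜ[K] a)) =
        (d.repr l i • d i) ⊗ₜ a := by
      intro i
      rw [coef_tmul, hd, LinearMap.BilinForm.dualBasis_repr_apply, ← hd,
        Algebra.traceForm_apply, mul_comm l (b i)]
      simp [Algebra.TensorProduct.algebraMap_apply, TensorProduct.smul_tmul']
    simp only [h1]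
    rw [← TensorProduct.sum_tmul, d.sum_repr]
  | add x y hx hy =>
    simp only [map_add, mul_add, Finset.sum_add_distrib]
    rw [← hx, ← hy]

/-- the finite Galois case -/
theorem rho_eq_zero_of_isGalois (x : N ⊗[K] A)
    (hx : x ∈ EtAlgD.maxWeaklyEtale N (N ⊗[K] A)) : rho K A N x = 0 := by
  classical
  let b := Module.finBasis K N
  rw [sum_dual_coef K A N b x, map_sum]
  apply Finset.sum_eq_zero
  intro i _
  have h1 := coef_mem_maxWE K A N (b i) x hx
  rw [Algebra.TensorProduct.algebraMap_apply, Algebra.TensorProduct.includeRight_apply,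
    Algebra.TensorProduct.tmul_mul_tmul, mul_one, one_mul, rho_tmul,
    (quoMap_eq_zero_iff K A _).2 h1, tmul_zero]

end galois

end Groth.Agent.H78.MaxWE
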