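import Mathlib
import Groth.Agent.H78.MaxWE.Galois

/-!
# Idempotents of `L ⊗ A` for an arbitrary field extension `L / K`
-/

set_option autoImplicit false
set_option linter.style.haveILetI false
set_option linter.unusedSimpArgs false
set_option linter.unusedVariables false

universe u
open Polynomial TensorProduct

namespace Groth.Agent.H78.MaxWE

section spread

variable (K : Type u) [Field K] (A : Type u) [CommRing A] [Algebra K A]

/-- the (possibly infinite) Galois case for idempotents -/
theorem rho_eq_zero_of_isGalois_idem (F : Type u) [Field F] [Algebra K F] [IsGalois K F]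
    (e : F ⊗[K] A) (he : IsIdempotentElem e) : rho K A F e = 0 := by
  classical
  obtain ⟨S, hS⟩ := TensorProduct.exists_finset e
  let s : Set F := ↑(S.image Prod.fst)
  haveI : Finite s := Finset.finite_toSet _
  let N := FiniteGaloisIntermediateField.adjoin K s
  have hmem : ∀ i ∈ S, (i : F × A).1 ∈ N.toIntermediateField := by
    intro i hi
    apply FiniteGaloisIntermediateField.subset_adjoin K s
    exact Finset.mem_coe.2 (Finset.mem_image_of_mem _ hi)
  let y : N.toIntermediateField ⊗[K] A :=
    ∑ i ∈ S.attach, (⟨i.1.1, hmem i.1 i.2⟩ : N.toIntermediateField) ⊗ₜ[K] i.1.2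
  have hy : tmap K A N.toIntermediateField.val y = e := by
    rw [hS, map_sum]
    rw [← Finset.sum_attach S]
    apply Finset.sum_congr rfl
    intro i _
    simp [tmap]
  have hinj : Function.Injective N.toIntermediateField.val := N.toIntermediateField.val.injective
  have hyid : IsIdempotentElem y := by
    apply isIdempotentElem_of_tmap K A _ hinj
    rw [hy]; exact he
  have h1 : rho K A N.toIntermediateField y = 0 :=
    rho_eq_zero_of_isGalois K A N.toIntermediateField y
      (idempotent_mem_maxWE N.toIntermediateField _ hyid)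
  rw [← hy]
  exact rho_tmap_eq_zero K A _ y h1

/-- purely inseparable descent of idempotents -/
theorem exists_tmap_eq_of_isPurelyInseparable (F E : Type u) [Field F] [Field E] [Algebra K F]
    [Algebra K E] [Algebra F E] [IsScalarTower K F E] [IsPurelyInseparable F E]
    (e : E ⊗[K] A) (he : IsIdempotentElem e) :
    ∃ y : F ⊗[K] A, tmap K A (IsScalarTower.toAlgHom K F E) y = e := by
  rcases subsingleton_or_nontrivial (E ⊗[K] A) with hsub | hnon
  · exact ⟨0, Subsingleton.elim _ _⟩
  set q := ringExpChar F with hq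
  haveI : ExpChar F q := ringExpChar.expChar F
  haveI : ExpChar (E ⊗[K] A) q :=
    expChar_of_injective_ringHom
      (f := (algebraMap E (E ⊗[K] A)).comp (algebraMap F E))
      (RingHom.injective _) q
  have key : ∀ x : E ⊗[K] A, ∃ n : ℕ, ∃ y : F ⊗[K] A,
      tmap K A (IsScalarTower.toAlgHom K F E) y = x ^ (q ^ n) := by
    intro x
    induction x using TensorProduct.induction_on with
    | zero =>
      refine ⟨0, 0, ?_⟩
      simp
    | tmul l a =>
      obtain ⟨n, f, hf⟩ := IsPurelyInseparable.pow_mem F q l
      refine ⟨n, f ⊗ₜ (a ^ (q ^ n)), ?_⟩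
      rw [Algebra.TensorProduct.tmul_pow, ← hf]
      simp [tmap]
    | add x x' hx hx' =>
      obtain ⟨n, y, hy⟩ := hx
      obtain ⟨n', y', hy'⟩ := hx'
      refine ⟨n + n', y ^ (q ^ n') + y' ^ (q ^ n), ?_⟩
      rw [add_pow_expChar_pow, map_add, map_pow, map_pow, hy, hy', ← pow_mul, ← pow_mul,
        ← pow_add, ← pow_add, add_comm n' n]
  obtain ⟨n, y, hy⟩ := key e
  refine ⟨y, ?_⟩
  rw [hy]
  have hpos : 0 < q ^ n := pow_pos (expChar_pos F q) n
  obtain ⟨k, hk⟩ := Nat.exists_eq_succ_of_ne_zero hpos.ne'
  rw [hk]
  exact he.pow_succ_eq k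

/-- the algebraic case for idempotents -/
theorem rho_eq_zero_of_isAlgebraic_idem (K' : Type u) [Field K'] [Algebra K K']
    [Algebra.IsAlgebraic K K'] (e : K' ⊗[K] A) (he : IsIdempotentElem e) :
    rho K A K' e = 0 := by
  let Ω := AlgebraicClosure K'
  haveI : Algebra.IsAlgebraic K Ω := Algebra.IsAlgebraic.trans K K' Ω
  haveI : IsAlgClosure K Ω := ⟨inferInstance, inferInstance⟩
  haveI : Normal K Ω := IsAlgClosure.normal K Ω
  let F := separableClosure K Ω
  haveI : IsGalois K F := separableClosure.isGalois K Ω
  haveI : IsPurelyInseparable F Ω := separableClosure.isPurelyInseparable K Ω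
  let ι : K' →ₐ[K] Ω := IsScalarTower.toAlgHom K K' Ω
  have hι : Function.Injective ι := ι.injective
  apply rho_eq_zero_of_tmap K A ι hι
  have heΩ : IsIdempotentElem (tmap K A ι e) := he.map _
  obtain ⟨y, hy⟩ := exists_tmap_eq_of_isPurelyInseparable K A F Ω (tmap K A ι e) heΩ
  have hinj : Function.Injective (IsScalarTower.toAlgHom K F Ω) :=
    (IsScalarTower.toAlgHom K F Ω).injective
  have hyid : IsIdempotentElem y := by
    apply isIdempotentElem_of_tmap K A _ hinj
    rw [hy]; exact heΩ
  rw [← hy]
  exact rho_tmap_eq_zero K A _ y (rho_eq_zero_of_isGalois_idem K A F y hyid)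

end spread

end Groth.Agent.H78.MaxWE
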