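import Mathlib
import Groth.Agent.H78.MaxWE.Spread

/-!
# Base change of the maximal weakly étale subalgebra: main theorem
-/

set_option autoImplicit false
set_option linter.style.haveILetI false
set_option linter.unusedSimpArgs false
set_option linter.unusedVariables false

universe u
open Polynomial TensorProduct

namespace Groth.Agent.H78.MaxWE

section main

variable (K : Type u) [Field K] (A : Type u) [CommRing A] [Algebra K A]

/-- naturality of coordinates in `R ⊗ Q` -/
theorem basis_repr_rTensor {R R' : Type u} [CommRing R] [Algebra K R] [CommRing R'] [Algebra K R']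
    {Q : Type u} [AddCommGroup Q] [Module K Q] {ι : Type*} (β : Module.Basis ι K Q)
    (φ : R →ₐ[K] R') (w : R ⊗[K] Q) (i : ι) :
    (Algebra.TensorProduct.basis R' β).repr (LinearMap.rTensor Q φ.toLinearMap w) i =
      φ ((Algebra.TensorProduct.basis R β).repr w i) := by
  induction w using TensorProduct.induction_on with
  | zero => simp
  | tmul r q =>
    simp only [LinearMap.rTensor_tmul, AlgHom.toLinearMap_apply,
      Algebra.TensorProduct.basis_repr_tmul, Finsupp.smul_apply, Finsupp.mapRange_apply,
      smul_eq_mul, map_mul, AlgHom.commutes]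
  | add x y hx hy =>
    simp only [map_add, Finsupp.add_apply, hx, hy]

/-- idempotents of `L ⊗ A` for an arbitrary field extension `L / K` -/
theorem rho_eq_zero_of_idem (L : Type u) [Field L] [Algebra K L]
    (e : L ⊗[K] A) (he : IsIdempotentElem e) : rho K A L e = 0 := by
  classical
  obtain ⟨S, hS⟩ := TensorProduct.exists_finset e
  let s : Finset L := S.image Prod.fst
  let R : Subalgebra K L := Algebra.adjoin K (↑s : Set L)
  have hmem : ∀ i ∈ S, (i : L × A).1 ∈ R := by
    intro i hi
    apply Algebra.subset_adjoin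
    exact Finset.mem_coe.2 (Finset.mem_image_of_mem _ hi)
  let y : R ⊗[K] A := ∑ i ∈ S.attach, (⟨i.1.1, hmem i.1 i.2⟩ : R) ⊗ₜ[K] i.1.2
  have hy : tmap K A R.val y = e := by
    rw [hS, map_sum]
    rw [← Finset.sum_attach S]
    apply Finset.sum_congr rfl
    intro i _
    simp [tmap]
  have hinj : Function.Injective R.val := Subtype.val_injective
  have hyid : IsIdempotentElem y := by
    apply isIdempotentElem_of_tmap K A _ hinj
    rw [hy]; exact he
  rw [← hy]
  apply rho_tmap_eq_zero
  -- now show `rho K A R y = 0`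
  haveI : Algebra.FiniteType K R := (Subalgebra.fg_iff_finiteType R).1 (Subalgebra.fg_adjoin_finset s)
  haveI : IsJacobsonRing R := isJacobsonRing_of_finiteType (A := K) (B := R)
  set w := rho K A R y with hw
  let β := Module.Free.chooseBasis K (Quo K A)
  apply (Algebra.TensorProduct.basis R β).repr.injective
  rw [map_zero]
  ext i
  rw [Finsupp.zero_apply]
  set c := (Algebra.TensorProduct.basis R β).repr w i with hc
  have hjac : c ∈ Ideal.jacobson (⊥ : Ideal R) := by
    rw [Ideal.jacobson, Ideal.mem_sInf]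
    rintro m ⟨-, hm⟩
    haveI := hm
    letI : Field (R ⧸ m) := Ideal.Quotient.field m
    haveI : Algebra.FiniteType K (R ⧸ m) :=
      Algebra.FiniteType.of_surjective (Ideal.Quotient.mkₐ K m) (Ideal.Quotient.mkₐ_surjective K m)
    haveI : Module.Finite K (R ⧸ m) := finite_of_finite_type_of_isJacobsonRing K (R ⧸ m)
    haveI : Algebra.IsAlgebraic K (R ⧸ m) := Algebra.IsAlgebraic.of_finite K (R ⧸ m)
    let φ : R →ₐ[K] R ⧸ m := Ideal.Quotient.mkₐ K m
    have h1 : rho K A (R ⧸ m) (tmap K A φ y) = 0 :=
      rho_eq_zero_of_isAlgebraic_idem K A (R ⧸ m) _ (hyid.map _)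
    rw [rho_tmap] at h1
    have h2 := basis_repr_rTensor K β φ w i
    rw [← hw] at h1
    rw [h1, map_zero, Finsupp.zero_apply] at h2
    have h3 : φ c = 0 := h2.symm
    exact Ideal.Quotient.eq_zero_iff_mem.1 h3
  have hrad : Ideal.jacobson (⊥ : Ideal R) = ⊥ := by
    rw [← Ideal.radical_eq_jacobson]
    exact Ideal.radical_bot_of_isReduced
  rw [hrad] at hjac
  rw [(Submodule.mem_bot _).1 hjac]

/-- evaluation of a polynomial at `z (1 - ε) + u ε` for an idempotent `ε` -/
theorem aeval_idem_decomp {E T : Type*} [Field E] [CommRing T] [Algebra E T] (ε z u : T)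
    (hε : IsIdempotentElem ε) (F : E[X]) :
    aeval (z * (1 - ε) + u * ε) F = aeval z F * (1 - ε) + aeval u F * ε := by
  have hε2 : ε * ε = ε := hε
  have h0 : (1 - ε) * ε = 0 := by rw [sub_mul, one_mul, hε2, sub_self]
  have h1 : (1 - ε) * (1 - ε) = 1 - ε := by
    rw [mul_sub, mul_one, sub_mul, one_mul, hε2, sub_self, sub_zero]
  have hpow : ∀ k : ℕ, (z * (1 - ε) + u * ε) ^ k = z ^ k * (1 - ε) + u ^ k * ε := by
    intro k
    induction k with
    | zero => simp
    | succ k ih =>
      rw [pow_succ, ih, pow_succ, pow_succ]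
      have e1 : (z ^ k * (1 - ε) + u ^ k * ε) * (z * (1 - ε) + u * ε) =
          z ^ k * z * ((1 - ε) * (1 - ε)) + u ^ k * u * (ε * ε) +
            (z ^ k * u + u ^ k * z) * ((1 - ε) * ε) := by ring
      rw [e1, h0, h1, hε2, mul_zero, add_zero]
  induction F using Polynomial.induction_on' with
  | add p q hp hq =>
    rw [map_add, map_add, map_add, hp, hq]; ring
  | monomial n a =>
    simp only [aeval_monomial, hpow]
    ring

/-- separable elements over an algebraically closed field, given the idempotent case -/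
theorem rho_eq_zero_of_isAlgClosed (E : Type u) [Field E] [Algebra K E] [IsAlgClosed E] :
    ∀ (n : ℕ) (P : E[X]), P.natDegree = n → P.Separable → ∀ z : E ⊗[K] A, aeval z P = 0 →
      rho K A E z = 0 := by
  intro n
  induction n with
  | zero =>
    intro P hdeg hsep z hz
    rw [Polynomial.eq_C_of_natDegree_eq_zero hdeg] at hz hsep
    have hc : P.coeff 0 ≠ 0 := by
      intro h0
      rw [h0, map_zero] at hsep
      exact Polynomial.not_separable_zero hsep
    rw [aeval_C] at hz
    have h1 : (1 : E ⊗[K] A) = 0 := by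
      have := congrArg (fun t => (P.coeff 0)⁻¹ • t) hz
      simpa [Algebra.algebraMap_eq_smul_one, smul_smul, inv_mul_cancel₀ hc] using this
    have : z = 0 := by rw [← mul_one z, h1, mul_zero]
    rw [this, map_zero]
  | succ n ih =>
    intro P hdeg hsep z hz
    have hd : P.degree ≠ 0 := by
      rw [Polynomial.degree_eq_natDegree hsep.ne_zero, hdeg]
      exact_mod_cast (Nat.succ_ne_zero n)
    obtain ⟨c, hc⟩ := IsAlgClosed.exists_root P hd
    set P₁ := P /ₘ (X - C c) with hP₁
    have hfac : (X - C c) * P₁ = P := Polynomial.mul_divByMonic_eq_iff_isRoot.2 hc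
    have hsep' : ((X - C c) * P₁).Separable := by rw [hfac]; exact hsep
    have hsep₁ : P₁.Separable := hsep'.of_mul_right
    have hP₁0 : P₁ ≠ 0 := hsep₁.ne_zero
    have hdeg₁ : P₁.natDegree = n := by
      have := congrArg Polynomial.natDegree hfac
      rw [Polynomial.natDegree_mul (Polynomial.X_sub_C_ne_zero c) hP₁0,
        Polynomial.natDegree_X_sub_C, hdeg] at this
      omega
    set d := P₁.eval c with hd'
    have hd0 : d ≠ 0 := by
      obtain ⟨u, v, huv⟩ := hsep'.isCoprime
      have := congrArg (Polynomial.eval c) huv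
      simp only [eval_add, eval_mul, eval_sub, eval_X, eval_C, sub_self, mul_zero, zero_add,
        eval_one] at this
      intro h0
      rw [← hd', h0, mul_zero] at this
      exact zero_ne_one this
    set w := aeval z P₁ with hw
    have hzw : (z - algebraMap E _ c) * w = 0 := by
      have := hz
      rw [← hfac, map_mul, map_sub, aeval_X, aeval_C] at this
      exact this
    -- evaluation against `w`
    have hFw : ∀ F : E[X], aeval z F * w = algebraMap E (E ⊗[K] A) (F.eval c) * w := by
      intro F
      obtain ⟨G, hG⟩ := Polynomial.X_sub_C_dvd_sub_C_eval (a := c) (p := F)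
      have h1 : aeval z F - algebraMap E (E ⊗[K] A) (F.eval c) =
          (z - algebraMap E _ c) * aeval z G := by
        have := congrArg (aeval z) hG
        rw [map_sub, aeval_C, map_mul, map_sub, aeval_X, aeval_C] at this
        exact this
      have h2 : (aeval z F - algebraMap E (E ⊗[K] A) (F.eval c)) * w = 0 := by
        rw [h1, mul_right_comm, hzw, zero_mul]
      rw [sub_mul, sub_eq_zero] at h2
      exact h2
    set ε := algebraMap E (E ⊗[K] A) d⁻¹ * w with hε
    have hww : w * w = algebraMap E (E ⊗[K] A) d * w := by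
      have := hFw P₁
      rw [← hw, ← hd'] at this
      exact this
    have hdd : algebraMap E (E ⊗[K] A) d⁻¹ * algebraMap E (E ⊗[K] A) d = 1 := by
      rw [← map_mul, inv_mul_cancel₀ hd0, map_one]
    have hεid : IsIdempotentElem ε := by
      change ε * ε = ε
      rw [hε]
      calc algebraMap E (E ⊗[K] A) d⁻¹ * w * (algebraMap E (E ⊗[K] A) d⁻¹ * w)
          = algebraMap E (E ⊗[K] A) d⁻¹ * algebraMap E (E ⊗[K] A) d⁻¹ * (w * w) := by ring
        _ = algebraMap E (E ⊗[K] A) d⁻¹ * (algebraMap E (E ⊗[K] A) d⁻¹ *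
              algebraMap E (E ⊗[K] A) d) * w := by rw [hww]; ring
        _ = algebraMap E (E ⊗[K] A) d⁻¹ * w := by rw [hdd, mul_one]
    have hzε : z * ε = algebraMap E (E ⊗[K] A) c * ε := by
      have := hFw X
      rw [aeval_X, eval_X] at this
      rw [hε, mul_left_comm, this]; ring
    have hρε : rho K A E ε = 0 := rho_eq_zero_of_idem K A E ε hεid
    rcases Nat.eq_zero_or_pos n with hn0 | hnpos
    · -- `P₁` is a nonzero constant
      have hP₁C : P₁ = C d := by
        have h := Polynomial.eq_C_of_natDegree_eq_zero (hdeg₁.trans hn0)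
        rw [hd', h, eval_C, ← h]
      have hw' : w = algebraMap E (E ⊗[K] A) d := by rw [hw, hP₁C, aeval_C]
      have hε1 : ε = 1 := by rw [hε, hw', hdd]
      have : z = algebraMap E (E ⊗[K] A) c := by
        have := hzε
        rwa [hε1, mul_one, mul_one] at this
      rw [this, rho_algebraMap]
    · have hd₁ : P₁.degree ≠ 0 := by
        rw [Polynomial.degree_eq_natDegree hP₁0, hdeg₁]
        exact_mod_cast hnpos.ne'
      obtain ⟨c₂, hc₂⟩ := IsAlgClosed.exists_root P₁ hd₁
      set z₁ := z * (1 - ε) + algebraMap E (E ⊗[K] A) c₂ * ε with hz₁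
      have hz₁P : aeval z₁ P₁ = 0 := by
        have hc₂' : aeval c₂ P₁ = 0 := by
          rw [Polynomial.coe_aeval_eq_eval]; exact hc₂
        rw [hz₁, aeval_idem_decomp ε z _ hεid P₁, aeval_algebraMap_apply,
          hc₂', map_zero, zero_mul, add_zero, ← hw, mul_sub, mul_one]
        have : w * ε = w := by
          rw [hε, mul_left_comm, hww, ← mul_assoc, hdd, one_mul]
        rw [this, sub_self]
      have h1 := ih P₁ hdeg₁ hsep₁ z₁ hz₁P
      have hz : z = z₁ + algebraMap E (E ⊗[K] A) (c - c₂) * ε := by
        rw [hz₁, map_sub, mul_sub, mul_one, sub_mul, hzε]; ring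
      rw [hz, map_add, h1, zero_add, Algebra.algebraMap_eq_smul_one, smul_mul_assoc, one_mul,
        map_smul, hρε, smul_zero]

/-- the main vanishing: separable elements of `L ⊗ A` lie in `L ⊗ B` -/
theorem rho_eq_zero_of_separable (L : Type u) [Field L] [Algebra K L] (z : L ⊗[K] A)
    (P : L[X]) (hP : P.Separable) (hz : aeval z P = 0) : rho K A L z = 0 := by
  let E := AlgebraicClosure L
  let ι : L →ₐ[K] E := IsScalarTower.toAlgHom K L E
  apply rho_eq_zero_of_tmap K A ι ι.injective
  apply rho_eq_zero_of_isAlgClosed K A E _ (P.map (algebraMap L E)) rfl hP.map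
  have h := Polynomial.map_aeval_eq_aeval_map (R := L) (S := L ⊗[K] A) (T := E) (U := E ⊗[K] A)
    (φ := algebraMap L E) (ψ := (tmap K A ι : L ⊗[K] A →+* E ⊗[K] A)) (by
      ext l
      simp [Algebra.TensorProduct.algebraMap_apply, tmap, ι]) P z
  have h' : tmap K A ι (aeval z P) = aeval (tmap K A ι z) (P.map (algebraMap L E)) := h
  rw [← h', hz, map_zero]

/-- elements killed by `rho` lie in the subalgebra generated by `1 ⊗ B` -/
theorem mem_adjoin_of_rho_eq_zero (L : Type u) [Field L] [Algebra K L] (z : L ⊗[K] A)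
    (hz : rho K A L z = 0) :
    z ∈ Algebra.adjoin L ((Algebra.TensorProduct.includeRight : A →ₐ[K] L ⊗[K] A) ''
      (EtAlgD.maxWeaklyEtale K A : Set A)) := by
  set Bm := Subalgebra.toSubmodule (EtAlgD.maxWeaklyEtale K A) with hBm
  have hex : Function.Exact (LinearMap.lTensor L Bm.subtype) (LinearMap.lTensor L Bm.mkQ) :=
    lTensor_exact L (LinearMap.exact_subtype_mkQ Bm) (Submodule.mkQ_surjective Bm)
  have hz' : LinearMap.lTensor L Bm.mkQ z = 0 := by
    have e : ∀ x : L ⊗[K] A, LinearMap.lTensor L Bm.mkQ x = rho K A L x := by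
      intro x
      induction x using TensorProduct.induction_on with
      | zero => simp
      | tmul l a => rfl
      | add x y hx hy => simp only [map_add, hx, hy]
    rw [e, hz]
  obtain ⟨t, rfl⟩ := (hex z).1 hz'
  have claim : ∀ t : L ⊗[K] Bm, LinearMap.lTensor L Bm.subtype t ∈
      Algebra.adjoin L ((Algebra.TensorProduct.includeRight : A →ₐ[K] L ⊗[K] A) ''
        (EtAlgD.maxWeaklyEtale K A : Set A)) := by
    intro t
    induction t using TensorProduct.induction_on with
    | zero => simp
    | tmul l b =>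
      rw [LinearMap.lTensor_tmul]
      have : l ⊗ₜ[K] (Bm.subtype b) = l • (Algebra.TensorProduct.includeRight (R := K) (A := L)
          (b : A)) := by
        simp [TensorProduct.smul_tmul']
      rw [this]
      apply Subalgebra.smul_mem
      apply Algebra.subset_adjoin
      exact ⟨b, b.2, rfl⟩
    | add x y hx hy =>
      rw [map_add]
      exact Subalgebra.add_mem _ hx hy
  exact claim t

/-- the main theorem -/
theorem maxWE_baseChange (L : Type u) [Field L] [Algebra K L] :
    EtAlgD.maxWeaklyEtale L (L ⊗[K] A) =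
      Algebra.adjoin L ((Algebra.TensorProduct.includeRight : A →ₐ[K] L ⊗[K] A) ''
        (EtAlgD.maxWeaklyEtale K A : Set A)) := by
  apply le_antisymm
  · intro z hz
    obtain ⟨P, hP, hPz⟩ := (mem_maxWE_iff L (L ⊗[K] A) z).1 hz
    exact mem_adjoin_of_rho_eq_zero K A L z (rho_eq_zero_of_separable K A L z P hP hPz)
  · apply Algebra.adjoin_le
    rintro _ ⟨b, hb, rfl⟩
    obtain ⟨P, hP, hPb⟩ := (mem_maxWE_iff K A b).1 hb
    apply (mem_maxWE_iff L (L ⊗[K] A) _).2
    refine ⟨P.map (algebraMap K L), hP.map, ?_⟩
    rw [aeval_map_algebraMap, aeval_algHom_apply, hPb, map_zero]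

end main

end Groth.Agent.H78.MaxWE
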